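import Cfsg.Agent.Lib.SpSpec.Orders
import Cfsg.Agent.Lib.SUSpec.Dag

set_option autoImplicit false
set_option linter.unusedSectionVars false

/-!
Tools for the prime graph of `PSp_{2n}(F)`: tori and unipotent factors as form algebras on one side,
and the irreducible factors of characteristic polynomials on the other side.
-/

namespace Cfsg.Agent.Lib.SpSpec.Graph

open Polynomial Module FiniteField
open Cfsg.Agent.Lib.SpSpec.Recip Cfsg.Agent.Lib.SpSpec.FormAlg Cfsg.Agent.Lib.SpSpec.Structure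
open Cfsg.Agent.Lib.Classical.SympForm Cfsg.Agent.Lib.Classical.SympSimple

universe u

variable {F : Type u} [Field F]

section forms

/-- the coordinate sum -/
noncomputable def sumForm (m : ℕ) : (Fin m → F) →ₗ[F] F := ∑ i, LinearMap.proj i

lemma sumForm_apply (m : ℕ) (f : Fin m → F) : sumForm m f = ∑ i, f i := by
  simp [sumForm]

/-- a split form algebra of any dimension -/
lemma formAlg_rest (m : ℕ) :
    IsFormAlg (F := F) ((AlgHom.snd F (Fin m → F) (Fin m → F)).prod (AlgHom.fst F (Fin m → F) (Fin m → F)))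
      ((sumForm m).coprod (-(sumForm m))) where
  invol f := rfl
  alt f := by
    change sumForm m (f.1 * f.2) + -(sumForm m (f.2 * f.1)) = 0
    rw [mul_comm f.2 f.1, add_neg_cancel]
  nondeg f hf := by
    classical
    apply Prod.ext
    · funext i
      have := hf (Pi.single i 1, 0)
      simpa [sumForm_apply, Finset.sum_ite_eq', Pi.single_apply] using this
    · funext i
      have := hf (0, Pi.single i 1)
      simpa [sumForm_apply, Finset.sum_ite_eq', Pi.single_apply] using this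

variable [Fintype F]

/-- adding a trivial part -/
theorem exists_psp_rest {S : Type*} [CommRing S] [Algebra F S] [Module.Finite F S] {σ : S →ₐ[F] S}
    {τ : S →ₗ[F] F} (h : IsFormAlg σ τ) {n t : ℕ} (hn : 1 ≤ n) (htn : t ≤ n)
    (hdim : finrank F S = 2 * t) (s : S) (hs : s * σ s = 1) (N : ℕ) (hN : s ^ N = 1)
    (hmin : ∀ m, s ^ m = 1 ∨ s ^ m = -1 → N ∣ m) :
    ∃ g : Cfsg.PSp n F, orderOf g = N := by
  have hform := h.prod (formAlg_rest (F := F) (n - t))
  have hdim2 : finrank F (S × ((Fin (n - t) → F) × (Fin (n - t) → F))) = 2 * n := by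
    rw [Module.finrank_prod, Module.finrank_prod, hdim, Module.finrank_fin_fun]
    omega
  apply exists_psp_order hn hform hdim2 ((s, 1) : S × ((Fin (n - t) → F) × (Fin (n - t) → F)))
  · apply Prod.ext
    · exact hs
    · exact mul_one _
  · left
    apply Prod.ext
    · exact hN
    · exact one_pow _
  · intro m hm
    apply hmin
    rcases hm with hm | hm
    · exact Or.inl (congrArg Prod.fst hm)
    · exact Or.inr (congrArg Prod.fst hm)

end forms

section dual

open Lib.SLn.PrimeGraph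

lemma one_re' : (1 : Dual F).re = 1 := rfl
lemma one_im' : (1 : Dual F).im = 0 := rfl

/-- the involution of the dual numbers -/
noncomputable def dualInv : Dual F →ₐ[F] Dual F :=
  QuadraticAlgebra.lift ⟨⟨0, -1⟩, by
    ext <;> simp [one_re', one_im']⟩

lemma dualInv_re (x : Dual F) : (dualInv x).re = x.re := by
  simp [dualInv, QuadraticAlgebra.lift, one_re', one_im']

lemma dualInv_im (x : Dual F) : (dualInv x).im = -x.im := by
  simp [dualInv, QuadraticAlgebra.lift, one_re', one_im']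

/-- the dual numbers are a form algebra, in each characteristic -/
lemma formAlg_dual : IsFormAlg (dualInv (F := F)) (QuadraticAlgebra.imₗ (0 : F) (0 : F)) where
  invol f := by
    ext
    · rw [dualInv_re, dualInv_re]
    · rw [dualInv_im, dualInv_im, neg_neg]
  alt f := by
    simp [dualInv_re, dualInv_im]
    ring
  nondeg f hf := by
    have h1 := hf 1
    have h2 := hf ⟨0, 1⟩
    simp [one_re', one_im'] at h1 h2
    ext
    · exact h2
    · exact h1

lemma u1_sigma : (u1 : Dual F) * dualInv u1 = 1 := by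
  ext
  · simp [u1, dualInv_re, dualInv_im, one_re']
  · simp [u1, dualInv_re, dualInv_im, one_im']

lemma u1_pow_cases {m : ℕ} (h : (u1 : Dual F) ^ m = 1 ∨ (u1 : Dual F) ^ m = -1) : (m : F) = 0 := by
  rw [u1_pow] at h
  rcases h with h | h
  · have := congrArg QuadraticAlgebra.im h
    simpa [one_im'] using this
  · have := congrArg QuadraticAlgebra.im h
    simpa [one_im'] using this

end dual

section numbers

variable {q r k η : ℕ}

lemma eta_le (hη : (Odd k ∧ η = k) ∨ (Even k ∧ 2 * η = k)) : η ≤ k := by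
  rcases hη with ⟨-, h⟩ | ⟨-, h⟩ <;> omega

lemma eta_pos (hk : 0 < k) (hη : (Odd k ∧ η = k) ∨ (Even k ∧ 2 * η = k)) : 0 < η := by
  rcases hη with ⟨-, h⟩ | ⟨-, h⟩ <;> omega

variable [Fact r.Prime]

/-- the divisors of `q ^ t + 1` -/
lemma of_dvd_add_one (hq : 0 < q) (hr2 : r ≠ 2) (hk : k = orderOf ((q : ℕ) : ZMod r))
    (hη : (Odd k ∧ η = k) ∨ (Even k ∧ 2 * η = k)) {t : ℕ} (h : r ∣ q ^ t + 1) :
    Even k ∧ ∃ c, Odd c ∧ t = η * c := by
  have hr : r.Prime := Fact.out
  have h1 : 1 ≤ q ^ t := Nat.one_le_pow _ _ hq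
  have h2 : q ^ t + 1 ∣ q ^ (2 * t) - 1 := by
    obtain ⟨b, hb⟩ : ∃ b, q ^ t = b + 1 := ⟨q ^ t - 1, by omega⟩
    refine ⟨q ^ t - 1, ?_⟩
    rw [two_mul, pow_add, hb]
    simp only [Nat.add_sub_cancel]
    have : (b + 1) * (b + 1) = (b + 1 + 1) * b + 1 := by ring
    omega
  have hk2 : k ∣ 2 * t := by
    rw [hk]
    exact Lib.SLn.PrimeGraph.ord_dvd_of_dvd hq (h.trans h2)
  have hkt : ¬ k ∣ t := by
    intro h3
    obtain ⟨c, hc⟩ := h3
    have h4 : r ∣ q ^ k - 1 := Lib.SLn.PrimeGraph.dvd_pow_sub_one hq hk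
    have h5 : q ^ k - 1 ∣ q ^ t - 1 := by
      rw [hc, pow_mul]
      have := Nat.sub_dvd_pow_sub_pow (q ^ k) 1 c
      simpa using this
    have h6 : r ∣ q ^ t - 1 := h4.trans h5
    have h7 : r ∣ q ^ t + 1 - (q ^ t - 1) := Nat.dvd_sub h h6
    have h8 : q ^ t + 1 - (q ^ t - 1) = 2 := by omega
    rw [h8] at h7
    exact hr2 ((Nat.prime_dvd_prime_iff_eq hr Nat.prime_two).mp h7)
  rcases hη with ⟨hodd, hη⟩ | ⟨hev, hη⟩
  · exfalso
    exact hkt ((Nat.Coprime.dvd_of_dvd_mul_left (Nat.coprime_two_right.mpr hodd)) hk2)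
  · refine ⟨hev, ?_⟩
    rw [← hη] at hk2
    have h3 : η ∣ t := Nat.dvd_of_mul_dvd_mul_left (by norm_num) hk2
    obtain ⟨c, hc⟩ := h3
    refine ⟨c, ?_, hc⟩
    by_contra h4
    obtain ⟨c', hc'⟩ := Nat.not_odd_iff_even.mp h4
    apply hkt
    rw [← hη, hc, hc']
    exact ⟨c', by ring⟩

/-- the torus `q ^ η + 1` contains elements of order `r` when the order of `q` is even -/
lemma dvd_add_one_of_even (hq : 0 < q) (hk : k = orderOf ((q : ℕ) : ZMod r))
    (hk0 : 0 < k) (hη : 2 * η = k) : r ∣ q ^ η + 1 := by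
  have hr : r.Prime := Fact.out
  have h1 : r ∣ q ^ k - 1 := Lib.SLn.PrimeGraph.dvd_pow_sub_one hq hk
  have h2 : 1 ≤ q ^ η := Nat.one_le_pow _ _ hq
  have h3 : q ^ k - 1 = (q ^ η - 1) * (q ^ η + 1) := by
    obtain ⟨b, hb⟩ : ∃ b, q ^ η = b + 1 := ⟨q ^ η - 1, by omega⟩
    rw [← hη, two_mul, pow_add, hb]
    simp only [Nat.add_sub_cancel]
    have : (b + 1) * (b + 1) = b * (b + 1 + 1) + 1 := by ring
    omega
  rw [h3] at h1
  rcases hr.dvd_mul.mp h1 with h4 | h4
  · exfalso
    have h5 : k ∣ η := by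
      rw [hk]
      exact Lib.SLn.PrimeGraph.ord_dvd_of_dvd hq h4
    have h6 := Nat.le_of_dvd (by omega) h5
    omega
  · exact h4

end numbers

section tori

variable [Fintype F] (p : ℕ) [Fact p.Prime] [CharP F p]

include p in
/-- the nonsplit torus -/
lemma torus_plus {η a : ℕ} (hη : η ≠ 0) (ha : a ∣ Fintype.card F ^ η + 1) {C : Prop}
    (H : ∀ (S : Type) [CommRing S] [Algebra F S] [Module.Finite F S] (σ : S →ₐ[F] S) (τ : S →ₗ[F] F),
      IsFormAlg σ τ → finrank F S = 2 * η → ∀ s : S, s * σ s = 1 → orderOf s = a → C) : C := by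
  haveI : NeZero (2 * η) := ⟨by omega⟩
  obtain ⟨σ, τ, hform, hσ⟩ := exists_form_ext (F := F) p η hη
  obtain ⟨y, hy0, hy⟩ := Lib.SLn.PrimeGraph.exists_ext_elem (F := F) p (2 * η)
    (ha.trans (dvd_pow_two_mul_sub_one_plus F η))
  refine H _ σ τ hform (FiniteField.finrank_extension F p (2 * η)) y ?_ hy
  rw [hσ, ← pow_succ']
  obtain ⟨c, hc⟩ := ha
  rw [hc, pow_mul, ← hy, pow_orderOf_eq_one, one_pow]

include p in
/-- the split torus -/
lemma torus_minus {η a : ℕ} (hη : η ≠ 0) (ha : a ∣ Fintype.card F ^ η - 1) {C : Prop}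
    (H : ∀ (S : Type) [CommRing S] [Algebra F S] [Module.Finite F S] (σ : S →ₐ[F] S) (τ : S →ₗ[F] F),
      IsFormAlg σ τ → finrank F S = 2 * η → ∀ s : S, s * σ s = 1 → orderOf s = a → C) : C := by
  haveI : NeZero η := ⟨hη⟩
  have hform := formAlg_swap (F := F) (Extension F p η)
  obtain ⟨y, hy0, hy⟩ := Lib.SLn.PrimeGraph.exists_ext_elem (F := F) p η ha
  have hdim : finrank F (Extension F p η × Extension F p η) = 2 * η := by
    rw [Module.finrank_prod, FiniteField.finrank_extension]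
    omega
  refine H _ _ _ hform hdim ((y, y⁻¹) : Extension F p η × Extension F p η) ?_ ?_
  · apply Prod.ext
    · exact mul_inv_cancel₀ hy0
    · exact inv_mul_cancel₀ hy0
  · have h1 : orderOf y⁻¹ = orderOf y := by
      have e1 := orderOf_units (y := Units.mk0 y hy0)
      have e2 := orderOf_units (y := (Units.mk0 y hy0)⁻¹)
      rw [orderOf_inv, ← e1] at e2
      exact e2
    rw [Prod.orderOf]
    show Nat.lcm (orderOf y) (orderOf y⁻¹) = a
    rw [h1, hy, Nat.lcm_self]

include p in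
/-- the torus of a prime -/
lemma torus_prime {r k η : ℕ} (hr : r.Prime) (hrp : r ≠ p) (hk : k = orderOf ((Fintype.card F : ℕ) : ZMod r))
    (hη : (Odd k ∧ η = k) ∨ (Even k ∧ 2 * η = k)) {C : Prop}
    (H : ∀ (S : Type) [CommRing S] [Algebra F S] [Module.Finite F S] (σ : S →ₐ[F] S) (τ : S →ₗ[F] F),
      IsFormAlg σ τ → finrank F S = 2 * η → ∀ s : S, s * σ s = 1 → orderOf s = r → C) : C := by
  haveI : Fact r.Prime := ⟨hr⟩
  have hk0 : 0 < k := by
    rw [hk]
    exact Lib.SLn.PrimeGraph.ord_pos (F := F) p hrp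
  have hη0 : η ≠ 0 := (eta_pos hk0 hη).ne'
  have hcard : 0 < Fintype.card F := Fintype.card_pos
  rcases hη with ⟨-, h⟩ | ⟨-, h⟩
  · refine torus_minus (F := F) p hη0 ?_ H
    rw [h]
    exact Lib.SLn.PrimeGraph.dvd_pow_sub_one hcard hk
  · exact torus_plus (F := F) p hη0 (dvd_add_one_of_even hcard hk hk0 h) H

/-- powers of an element of odd order -/
lemma dvd_of_pow_eq_pm {S : Type*} [CommRing S] {s : S} {N m : ℕ} (hN : Odd N) (hs : orderOf s = N)
    (h : s ^ m = 1 ∨ s ^ m = -1) : N ∣ m := by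
  have h1 : s ^ (2 * m) = 1 := by
    rw [mul_comm, pow_mul]
    rcases h with h | h
    · rw [h, one_pow]
    · rw [h, neg_one_sq]
  have h2 := orderOf_dvd_of_pow_eq_one h1
  rw [hs] at h2
  exact (Nat.coprime_two_right.mpr hN).dvd_of_dvd_mul_left h2

end tori

section polys

variable {ι : Type*} [Fintype ι] [DecidableEq ι]

/-- a factor of the characteristic polynomial on which the power `A ^ a` is nontrivial -/
theorem exists_factor (A : Matrix ι ι F) {a b : ℕ} (h1 : A ^ (a * b) = 1) (h2 : A ^ a ≠ 1) :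
    ∃ π : F[X], π.Monic ∧ Irreducible π ∧ π ∣ A.charpoly ∧
      π ∣ ∑ i ∈ Finset.range b, (X ^ a : F[X]) ^ i := by
  classical
  set P : F[X] := X ^ a with hP
  set H : F[X] := ∑ i ∈ Finset.range b, P ^ i with hH
  have hPH : (P - 1) * H = P ^ b - 1 := mul_geom_sum P b
  have hχ0 : A.charpoly ≠ 0 := (Matrix.charpoly_monic A).ne_zero
  have hnotcop : ¬ IsCoprime A.charpoly H := by
    rintro ⟨u, v, huv⟩
    have h3 := congrArg (aeval A) huv
    rw [map_add, map_mul, map_mul, Matrix.aeval_self_charpoly, mul_zero, zero_add, map_one] at h3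
    apply h2
    have h4 := congrArg (aeval A) hPH
    have hAP : aeval A P = A ^ a := by rw [hP, map_pow, aeval_X]
    rw [map_mul, map_sub, map_sub, map_pow (aeval A) P b, map_one, hAP, ← pow_mul, h1, sub_self] at h4
    have h5 : (A ^ a - 1) = 0 := by
      calc (A ^ a - 1) = (A ^ a - 1) * (aeval A v * aeval A H) := by rw [h3, mul_one]
        _ = (A ^ a - 1) * aeval A H * aeval A v := by
            have : Commute (aeval A v) (aeval A H) := (Commute.all v H).map (aeval A)
            rw [this.eq, mul_assoc]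
        _ = 0 := by rw [h4, zero_mul]
    exact sub_eq_zero.mp h5
  have hex : ∃ z : F[X], Irreducible z ∧ z ∣ A.charpoly ∧ z ∣ H := by
    by_contra hall
    push Not at hall
    apply hnotcop
    apply isCoprime_of_irreducible_dvd (fun h3 => hχ0 h3.1)
    intro z hz h3 h4
    exact hall z hz h3 h4
  obtain ⟨z, hz, hzχ, hzH⟩ := hex
  have hz0 : z ≠ 0 := hz.ne_zero
  have hassoc : Associated z (z * C z.leadingCoeff⁻¹) := by
    refine ⟨⟨C z.leadingCoeff⁻¹, C z.leadingCoeff, ?_, ?_⟩, rfl⟩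
    · rw [← C_mul, inv_mul_cancel₀ (leadingCoeff_ne_zero.mpr hz0), C_1]
    · rw [← C_mul, mul_inv_cancel₀ (leadingCoeff_ne_zero.mpr hz0), C_1]
  exact ⟨z * C z.leadingCoeff⁻¹, monic_mul_leadingCoeff_inv hz0, hassoc.irreducible hz,
    hassoc.symm.dvd.trans hzχ, hassoc.symm.dvd.trans hzH⟩

/-- the root of such a factor -/
lemma order_root {π : F[X]} (hπ : Irreducible π) {a b : ℕ} (hb : b.Prime) (hbF : (b : F) ≠ 0)
    (hd : π ∣ ∑ i ∈ Finset.range b, (X ^ a : F[X]) ^ i) :
    haveI : Fact (Irreducible π) := ⟨hπ⟩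
    orderOf ((AdjoinRoot.root π) ^ a) = b := by
  haveI : Fact (Irreducible π) := ⟨hπ⟩
  haveI : Fact b.Prime := ⟨hb⟩
  set v := (AdjoinRoot.root π) ^ a with hv
  have h1 : ∑ i ∈ Finset.range b, v ^ i = 0 := by
    have h2 := AdjoinRoot.mk_eq_zero.mpr hd
    rw [map_sum] at h2
    simpa [map_pow, hv] using h2
  have h2 : v ^ b = 1 := by
    have := mul_geom_sum v b
    rw [h1, mul_zero] at this
    exact (sub_eq_zero.mp this.symm)
  apply orderOf_eq_prime h2
  intro h3
  rw [h3] at h1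
  simp only [one_pow, Finset.sum_const, Finset.card_range, nsmul_eq_mul, mul_one] at h1
  apply hbF
  apply (algebraMap F (AdjoinRoot π)).injective
  rw [map_natCast, h1, map_zero]

/-- the geometric sum -/
lemma reverse_geom [Fintype F] (r : ℕ) (hr : 1 ≤ r) :
    (∑ i ∈ Finset.range r, (X : F[X]) ^ i).reverse = ∑ i ∈ Finset.range r, (X : F[X]) ^ i := by
  have h1 := mul_neg_geom_sum (X : F[X]) r
  have h2 := mul_geom_sum (X : F[X]) r
  have h3 := congrArg reverse h2
  rw [reverse_mul_of_domain] at h3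
  have h4 : (X - 1 : F[X]).reverse = 1 - X := by
    have := Lib.SUSpec.Dag.reverse_X_pow_sub_C (F := F) (M := 1) le_rfl 1
    simpa using this
  have h5 : (X ^ r - 1 : F[X]).reverse = 1 - X ^ r := by
    have := Lib.SUSpec.Dag.reverse_X_pow_sub_C (F := F) (M := r) hr 1
    simpa using this
  rw [h4, h5, ← h1] at h3
  have h6 : (1 - X : F[X]) ≠ 0 := by
    intro h
    have h7 : (X : F[X]) = 1 := (sub_eq_zero.mp h).symm
    have := congrArg natDegree h7
    simp at this
  exact mul_left_cancel₀ h6 h3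

end polys

section factors

variable [Fintype F] (p : ℕ) [Fact p.Prime] [CharP F p]

/-- powers in the field generated by a root -/
lemma pow_card_sub_one {π : F[X]} (hπ : Irreducible π) :
    haveI : Fact (Irreducible π) := ⟨hπ⟩
    ∀ v : AdjoinRoot π, v ≠ 0 → v ^ (Fintype.card F ^ π.natDegree - 1) = 1 := by
  haveI : Fact (Irreducible π) := ⟨hπ⟩
  intro v hv
  let pb := AdjoinRoot.powerBasis hπ.ne_zero
  haveI : Module.Finite F (AdjoinRoot π) := pb.finite
  haveI : Finite (AdjoinRoot π) := Module.finite_of_finite F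
  letI : Fintype (AdjoinRoot π) := Fintype.ofFinite _
  have hfr : finrank F (AdjoinRoot π) = π.natDegree := by
    rw [PowerBasis.finrank pb]
    simp [pb, AdjoinRoot.powerBasis_dim]
  have hcard : Fintype.card (AdjoinRoot π) = Fintype.card F ^ π.natDegree := by
    rw [← hfr]
    exact Module.card_eq_pow_finrank (K := F) (V := AdjoinRoot π)
  rw [← hcard]
  exact FiniteField.pow_card_sub_one_eq_one v hv

lemma ord_dvd_natDegree {π : F[X]} (hπ : Irreducible π) {r : ℕ} [Fact r.Prime] {k : ℕ}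
    (hk : k = orderOf ((Fintype.card F : ℕ) : ZMod r)) {j : ℕ}
    (hv : haveI : Fact (Irreducible π) := ⟨hπ⟩
      orderOf ((AdjoinRoot.root π) ^ j) = r) : k ∣ π.natDegree := by
  haveI : Fact (Irreducible π) := ⟨hπ⟩
  have hr : r.Prime := Fact.out
  set v := (AdjoinRoot.root π) ^ j with hvdef
  have hv0 : v ≠ 0 := by
    intro h
    rw [h, orderOf_zero] at hv
    exact hr.ne_zero hv.symm
  have h1 := pow_card_sub_one hπ v hv0
  have h2 := orderOf_dvd_of_pow_eq_one h1
  rw [hv] at h2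
  rw [hk]
  exact Lib.SLn.PrimeGraph.ord_dvd_of_dvd Fintype.card_pos h2

include p in
/-- the degree of a self reciprocal factor -/
lemma self_natDegree {π : F[X]} (hπ : Irreducible π) (hm : π.Monic) (h0 : π.coeff 0 ≠ 0)
    (hself : pstar π = π) {r : ℕ} [Fact r.Prime] (hr2 : r ≠ 2) {j : ℕ}
    (hv : haveI : Fact (Irreducible π) := ⟨hπ⟩
      orderOf ((AdjoinRoot.root π) ^ j) = r) :
    ∃ t, π.natDegree = 2 * t ∧ r ∣ Fintype.card F ^ t + 1 := by
  haveI : Fact (Irreducible π) := ⟨hπ⟩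
  have hr : r.Prime := Fact.out
  set θ := AdjoinRoot.root π with hθ
  have hroot : ∀ g : F[X], π ∣ g → aeval θ g = 0 := by
    intro g hg
    obtain ⟨Q, rfl⟩ := hg
    have : aeval θ π = 0 := by
      simp only [hθ]
      rw [AdjoinRoot.aeval_eq, AdjoinRoot.mk_self]
    rw [map_mul, this, zero_mul]
  have hd1 : π.natDegree ≠ 1 := by
    intro hd1
    have h1 := pstar_deg_one hm hself hd1
    have h2 := hroot _ h1
    rw [map_sub, map_pow, aeval_X, map_one] at h2
    have h3 : θ ^ 2 = 1 := sub_eq_zero.mp h2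
    have h4 : (θ ^ j) ^ 2 = 1 := by rw [← pow_mul, mul_comm, pow_mul, h3, one_pow]
    have h5 := orderOf_dvd_of_pow_eq_one h4
    rw [hv] at h5
    exact hr2 ((Nat.prime_dvd_prime_iff_eq hr Nat.prime_two).mp h5)
  have hd2 : 2 ≤ π.natDegree := by
    have := hπ.natDegree_pos
    omega
  obtain ⟨t, ht, -, hdvd⟩ := selfrec_dvd p hπ hm h0 hself hd2
  refine ⟨t, ht, ?_⟩
  have h2 := hroot _ hdvd
  rw [map_sub, map_pow, aeval_X, map_one] at h2
  have h3 : θ ^ (Fintype.card F ^ t + 1) = 1 := sub_eq_zero.mp h2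
  have h4 : (θ ^ j) ^ (Fintype.card F ^ t + 1) = 1 := by
    rw [← pow_mul, mul_comm, pow_mul, h3, one_pow]
  rw [← hv]
  exact orderOf_dvd_of_pow_eq_one h4

lemma reverse_dvd_of_dvd {π D : F[X]} (h0 : π.coeff 0 ≠ 0) (hD : D.reverse = D) (hd : π ∣ D) :
    pstar π ∣ D := by
  obtain ⟨Q, hQ⟩ := hd
  have h1 : π.reverse ∣ D := by
    rw [← hD, hQ, reverse_mul_of_domain]
    exact dvd_mul_right _ _
  rw [reverse_eq_C_mul_pstar h0] at h1
  exact (dvd_mul_left _ _).trans h1

variable {n : ℕ}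

lemma coeff_charpoly_ne (X : Matrix.symplecticGroup (Fin n) F) :
    (X : Matrix (Fin n ⊕ Fin n) (Fin n ⊕ Fin n) F).charpoly.coeff 0 ≠ 0 := by
  intro h
  have hdet : (X : Matrix (Fin n ⊕ Fin n) (Fin n ⊕ Fin n) F).det ≠ 0 :=
    ((Matrix.isUnit_iff_isUnit_det _).mp (isUnit_sp X)).ne_zero
  apply hdet
  rw [Matrix.det_eq_sign_charpoly_coeff, h, mul_zero]

lemma coeff_ne_of_dvd (X : Matrix.symplecticGroup (Fin n) F) {π : F[X]}
    (hd : π ∣ (X : Matrix (Fin n ⊕ Fin n) (Fin n ⊕ Fin n) F).charpoly) : π.coeff 0 ≠ 0 := by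
  intro h
  have h1 : (Polynomial.X : F[X]) ∣ (X : Matrix (Fin n ⊕ Fin n) (Fin n ⊕ Fin n) F).charpoly :=
    (X_dvd_iff.mpr h).trans hd
  exact coeff_charpoly_ne X (X_dvd_iff.mp h1)

lemma pstar_dvd_charpoly (X : Matrix.symplecticGroup (Fin n) F) {π : F[X]}
    (hd : π ∣ (X : Matrix (Fin n ⊕ Fin n) (Fin n ⊕ Fin n) F).charpoly) :
    pstar π ∣ (X : Matrix (Fin n ⊕ Fin n) (Fin n ⊕ Fin n) F).charpoly := by
  obtain ⟨c, hc0, hc⟩ := charpoly_eq_reverse X
  have h0 := coeff_ne_of_dvd X hd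
  have h1 : π.reverse ∣ (X : Matrix (Fin n ⊕ Fin n) (Fin n ⊕ Fin n) F).charpoly := by
    obtain ⟨Q, hQ⟩ := hd
    rw [hc]
    rw [hQ, reverse_mul_of_domain]
    exact ((dvd_mul_right _ _).trans (dvd_mul_left _ _))
  rw [reverse_eq_C_mul_pstar h0] at h1
  exact (dvd_mul_left _ _).trans h1

lemma natDegree_charpoly (X : Matrix.symplecticGroup (Fin n) F) :
    (X : Matrix (Fin n ⊕ Fin n) (Fin n ⊕ Fin n) F).charpoly.natDegree = 2 * n := by
  have := Matrix.charpoly_natDegree_eq_dim (X : Matrix (Fin n ⊕ Fin n) (Fin n ⊕ Fin n) F)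
  rw [Fintype.card_sum, Fintype.card_fin] at this
  omega

include p in
/-- the polynomial built from a factor whose root has a power of prime order: its degree is at least
`2 * η`. -/
theorem exists_G (X : Matrix.symplecticGroup (Fin n) F) {π : F[X]} (hπ : Irreducible π) (hm : π.Monic)
    (hd : π ∣ (X : Matrix (Fin n ⊕ Fin n) (Fin n ⊕ Fin n) F).charpoly)
    {r k η : ℕ} [Fact r.Prime] (hr2 : r ≠ 2) (hk : k = orderOf ((Fintype.card F : ℕ) : ZMod r))
    (hη : (Odd k ∧ η = k) ∨ (Even k ∧ 2 * η = k)) {j : ℕ}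
    (hv : haveI : Fact (Irreducible π) := ⟨hπ⟩
      orderOf ((AdjoinRoot.root π) ^ j) = r) :
    ∃ G : F[X], G.Monic ∧ G ∣ (X : Matrix (Fin n ⊕ Fin n) (Fin n ⊕ Fin n) F).charpoly ∧ 2 * η ≤ G.natDegree ∧
      ∀ D : F[X], D.reverse = D → π ∣ D → G ∣ D := by
  have h0 := coeff_ne_of_dvd X hd
  have hdpos := hπ.natDegree_pos
  by_cases hself : pstar π = π
  · refine ⟨π, hm, hd, ?_, fun D _ h => h⟩
    obtain ⟨t, ht, hdvd⟩ := self_natDegree p hπ hm h0 hself hr2 hv
    obtain ⟨-, c, hc, htc⟩ := of_dvd_add_one Fintype.card_pos hr2 hk hη hdvd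
    rw [ht, htc]
    have hc1 : 1 ≤ c := hc.pos
    have : η * 1 ≤ η * c := Nat.mul_le_mul_left _ hc1
    omega
  · have hπ' := pstar_irreducible hπ h0
    have hm' := pstar_monic h0
    have hd' := pstar_natDegree h0
    have hnassoc : ¬ Associated π (pstar π) := fun h =>
      hself (eq_of_monic_of_associated hm hm' h).symm
    have hcop : IsCoprime π (pstar π) := by
      rw [hπ.coprime_iff_not_dvd]
      intro h
      exact hnassoc ((hπ.dvd_irreducible_iff_associated hπ').mp h)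
    refine ⟨π * pstar π, hm.mul hm', hcop.mul_dvd hd (pstar_dvd_charpoly X hd), ?_, ?_⟩
    · rw [hm.natDegree_mul hm', hd']
      have h1 := ord_dvd_natDegree hπ hk hv
      have h2 := Nat.le_of_dvd hdpos h1
      have h3 := eta_le hη
      omega
    · intro D hD h
      exact hcop.mul_dvd h (reverse_dvd_of_dvd h0 hD h)

end factors

section lift

variable [Fintype F] {n : ℕ}

lemma negOne_eq_one (h2 : (2 : F) = 0) : negOne n F = 1 := by
  apply Subtype.ext
  have h1 : (-1 : F) = 1 := by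
    linear_combination -h2
  ext i j
  simp only [negOne, Matrix.neg_apply]
  by_cases hij : i = j
  · subst hij
    simp [h1]
  · simp [Matrix.one_apply, hij]

/-- lifts of elements of odd order or in even characteristic -/
theorem exists_lift {x : Cfsg.PSp n F} (hn : 1 ≤ n) (h : Odd (orderOf x) ∨ (2 : F) = 0) :
    ∃ X : Matrix.symplecticGroup (Fin n) F, (QuotientGroup.mk X : Cfsg.PSp n F) = x ∧
      X ^ orderOf x = 1 := by
  rcases h with h | h
  · exact Lib.SpSpec.Orders.exists_lift_odd hn x h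
  · obtain ⟨X₀, rfl⟩ := QuotientGroup.mk_surjective x
    refine ⟨X₀, rfl, ?_⟩
    have h1 : (QuotientGroup.mk (X₀ ^ orderOf (QuotientGroup.mk X₀ : Cfsg.PSp n F)) : Cfsg.PSp n F) = 1 := by
      rw [QuotientGroup.mk_pow]
      exact pow_orderOf_eq_one _
    rw [QuotientGroup.eq_one_iff, mem_center_symplecticGroup_iff hn] at h1
    rcases h1 with h1 | h1
    · exact h1
    · rw [h1, negOne_eq_one h]

end lift

end Cfsg.Agent.Lib.SpSpec.Graph
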